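import Groth.Agent.DualInvX.Basic
import Groth.Agent.PnPic.Twist
import Groth.Agent.S0843
import Groth.Agent.WedgeX.Perfect
import Groth.Agent.ExtPow7.Basics

/-!
# Maps between twists of a rank two bundle and `O(b)`
-/

set_option autoImplicit false
set_option linter.style.haveILetI false
set_option backward.isDefEq.respectTransparency false
set_option backward.isDefEq.respectTransparency.types false

universe u

open CategoryTheory AlgebraicGeometry TopologicalSpace Opposite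
open scoped Groth.Agent.H23.PicMul

namespace Groth.Agent.SimpleTwo

open RefHull (stalkMapₗ)
open Groth.Agent

variable {X : Scheme.{u}}

theorem subsingleton_Γ {M : X.Modules} (h : Subsingleton (Coh.HH X M 0)) : Subsingleton Γ(M, ⊤) :=
  @Equiv.subsingleton _ _ (Sheaf.H.equiv₀ (Coh.toAb M) Limits.isTerminalTop).symm.toEquiv h

theorem subsingleton_of_Γ {M : X.Modules} (h : Subsingleton Γ(M, ⊤)) : Subsingleton (Coh.HH X M 0) :=
  @Equiv.subsingleton _ _ (Sheaf.H.equiv₀ (Coh.toAb M) Limits.isTerminalTop).toEquiv h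

theorem subsingleton_Γ_of_iso {M N : X.Modules} (e : M ≅ N) (h : Subsingleton Γ(M, ⊤)) : Subsingleton Γ(N, ⊤) :=
  ⟨fun a b => by
    have key : ∀ c : Γ(N, ⊤), e.hom.app ⊤ (e.inv.app ⊤ c) = c := fun c =>
      congrArg (fun φ : N ⟶ N => φ.app ⊤ c) e.inv_hom_id
    rw [← key a, ← key b, h.elim (e.inv.app ⊤ a) (e.inv.app ⊤ b)]⟩

theorem eq_zero_of_subsingleton_homSh {F G : X.Modules} (h : Subsingleton Γ(RefHull.homSh F G, ⊤)) (f : F ⟶ G) :
    f = 0 :=
  HomShX.ext_stalk fun x =>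
    congrArg (fun g : Γ(RefHull.homSh F G, ⊤) => g.1 ⟨x, trivial⟩) (h.elim (RefHull.ofHom f ⊤) (RefHull.ofHom 0 ⊤))

theorem subsingleton_homSh_of_forall {F G : X.Modules} (h : ∀ f : F ⟶ G, f = 0) :
    Subsingleton Γ(RefHull.homSh F G, ⊤) :=
  subsingleton_of_forall_eq 0 fun g => Subtype.ext <| funext fun x => by
    have := congrArg (fun f => stalkMapₗ f x.1) (h (HomShX.toHom g))
    rw [HomShX.stalkMapₗ_toHom, HomShX.stalkMapₗ_zero] at this
    exact this

theorem cl_homSh {F : X.Modules} (hF : FlatMod.IsFinLocFree F) (G : X.Modules) :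
    PicF.cl (RefHull.homSh F G) = PicF.cl G * PicF.cl (RefHull.dual F) := by
  haveI := ExtShX.isIso_tenDualHom hF G
  exact ((PicGrp.cl_eq_cl_iff _ _).2 ⟨asIso (ExtShX.tenDualHom F G)⟩).symm

variable {n : ℕ} {k : Type u} [Field k]

local notation "P" => CohB1.ProjSpace n k
local notation "Ot" => Twist.twistProjSpace n k

theorem cl_dual_twist (d : ℤ) : PicF.cl (RefHull.dual (Ot d)) = PicF.cl (Ot (-d)) := by
  refine (PnPic.isUnit_cl_twist (n := n) (R := k) d).mul_left_cancel ?_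
  rw [PnPic.cl_twistProjSpace_add, add_neg_cancel, PnPic.cl_twistProjSpace_zero]
  exact (PicGrp.cl_eq_cl_iff _ _).2 (DualInvX.nonempty_tensor_dual (PnPic.isInvertible_twistProjSpace n k d))

/-- There are nonzero maps from smaller to larger twists. -/
theorem exists_twist_hom_ne_zero {a b : ℤ} (hab : a ≤ b) : ∃ σ : Ot a ⟶ Ot b, σ ≠ 0 := by
  by_contra! h
  have h1 := subsingleton_homSh_of_forall h
  obtain ⟨e⟩ : Nonempty (RefHull.homSh (Ot a) (Ot b) ≅ Ot (b - a)) := (PicGrp.cl_eq_cl_iff _ _).1 (by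
    rw [cl_homSh (H23.PullPush.isFinLocFree_of_isInvertible (PnPic.isInvertible_twistProjSpace n k a)), cl_dual_twist,
      PnPic.cl_twistProjSpace_add, sub_eq_add_neg])
  have h2 := subsingleton_of_Γ (subsingleton_Γ_of_iso e h1)
  obtain ⟨d, hd⟩ : ∃ d : ℕ, b - a = d := ⟨(b - a).toNat, by omega⟩
  rw [hd] at h2
  obtain ⟨f⟩ := S0843.result k n d
  have h3 : Subsingleton ↥(MvPolynomial.homogeneousSubmodule (Fin (n + 1)) k d) := f.symm.toEquiv.subsingleton
  have := h3.elim ⟨MvPolynomial.X 0 ^ d, by simpa using (MvPolynomial.isHomogeneous_X k (0 : Fin (n + 1))).pow d⟩ 0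
  exact pow_ne_zero d (MvPolynomial.X_ne_zero (0 : Fin (n + 1))) (congrArg Subtype.val this)

theorem hom_twist_to_eq_zero (E : (P).Modules) (k₀ : ℤ)
    (h0 : Subsingleton (Coh.HH P (CohB1.tensorMod E (Ot k₀)) 0)) (s : Ot (-k₀) ⟶ E) : s = 0 := by
  obtain ⟨e⟩ : Nonempty (RefHull.homSh (Ot (-k₀)) E ≅ CohB1.tensorMod E (Ot k₀)) := (PicGrp.cl_eq_cl_iff _ _).1 (by
    rw [cl_homSh (H23.PullPush.isFinLocFree_of_isInvertible (PnPic.isInvertible_twistProjSpace n k _)), cl_dual_twist,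
      neg_neg, H23.PicMul.cl_tensor])
  exact eq_zero_of_subsingleton_homSh (subsingleton_Γ_of_iso e.symm (subsingleton_Γ h0)) s

theorem hom_to_twist_eq_zero {E : (P).Modules} (hE : FlatMod.IsFinLocFreeOfRank 2 E) {c : ℤ}
    (hdet : ∃ L : (P).Modules, ExtPow.IsExtPow 2 E L ∧ Nonempty (L ≅ Ot c)) (k₀ : ℤ)
    (h0 : Subsingleton (Coh.HH P (CohB1.tensorMod E (Ot k₀)) 0)) (t : E ⟶ Ot (c + k₀)) : t = 0 := by
  obtain ⟨L, hL, ⟨eL⟩⟩ := hdet
  have hf : FlatMod.IsFinLocFree E := fun x => let ⟨W, hy, he⟩ := hE x; ⟨W, 2, hy, he⟩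
  have hw := (PicGrp.cl_eq_cl_iff _ _).2 (WedgeX.nonempty_iso_homSh hE (ExtPow7.isExtPow_one E)
    (ExtPow7.isExtPow_one E) hL rfl)
  rw [cl_homSh hf, (PicGrp.cl_eq_cl_iff _ _).2 ⟨eL⟩] at hw
  obtain ⟨e⟩ : Nonempty (RefHull.homSh E (Ot (c + k₀)) ≅ CohB1.tensorMod E (Ot k₀)) := (PicGrp.cl_eq_cl_iff _ _).1 (by
    rw [cl_homSh hf, H23.PicMul.cl_tensor, hw, ← PnPic.cl_twistProjSpace_add, mul_right_comm])
  exact eq_zero_of_subsingleton_homSh (subsingleton_Γ_of_iso e.symm (subsingleton_Γ h0)) t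

end Groth.Agent.SimpleTwo
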